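import Groth.Agent.Lib.CohExtend20.Resolution
import Groth.Agent.Lib.OX.ExtZeroOpen
import Groth.Agent.Lib.OX.PerfectLemmas
import Groth.Agent.Lib.OX.QCohFun
import Groth.Agent.Lib.K0Sub.Localization
import Groth.Agent.Lib.HomRestrict20.Basic
import Groth.Agent.Lib.QCoh.Coherent
import Groth.Agent.Lib.Cohom.Serre
import Groth.Agent.Lib.DerCat.CohIn
import Groth.Agent.Lib.PC.Devissage
import Groth.Agent.Lib.SheafCoh.ModGroth
import Groth.Agent.Lib.OX.CohClass
import Groth.Agent.Lib.OX.BVdB

/-! # Extending bounded coherent objects from an open subscheme -/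

set_option autoImplicit false
set_option maxHeartbeats 2000000
set_option linter.style.haveILetI false
set_option backward.isDefEq.respectTransparency false
universe u

open CategoryTheory CategoryTheory.Limits CategoryTheory.Pretriangulated AlgebraicGeometry HomologicalComplex
open DerivedCategory (Q Qh)

attribute [local instance] HasDerivedCategory.standard

noncomputable section

namespace GrothLib.CohExtend20

open GrothLib.OX

/-- Morphisms into a K-injective complex come from maps of complexes. -/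
theorem exists_map_eq {C : Type*} [Category C] [Abelian C] [HasDerivedCategory C] {A I : CochainComplex C ℤ}
    [I.IsKInjective] (ψ : Q.obj A ⟶ Q.obj I) : ∃ φ : A ⟶ I, Q.map φ = ψ := by
  obtain ⟨g, hg⟩ := (CochainComplex.IsKInjective.Qh_map_bijective ((HomotopyCategory.quotient C (ComplexShape.up ℤ)).obj A) I).surjective
    ((DerivedCategory.quotientCompQhIso C).hom.app A ≫ ψ ≫ (DerivedCategory.quotientCompQhIso C).inv.app I)
  obtain ⟨φ, rfl⟩ := (HomotopyCategory.quotient C (ComplexShape.up ℤ)).map_surjective g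
  refine ⟨φ, (cancel_epi ((DerivedCategory.quotientCompQhIso C).hom.app A)).1 ?_⟩
  rw [← DerivedCategory.quotientCompQhIso_hom_naturality, hg]
  simp

variable {X U : Scheme.{u}} (j : U ⟶ X) [IsOpenImmersion j]

theorem mono_counit (M : X.Modules) : Mono ((CxOX.extZeroAdj j).counit.app M) := by
  refine (OX.mono_iff _).2 fun x => ?_
  by_cases hx : x ∈ Set.range j
  · obtain ⟨y, rfl⟩ := hx
    refine mono_stalk_map_of_restrict j _ y ?_
    have h := (CxOX.extZeroAdj j).right_triangle_components M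
    haveI : IsIso ((CxOX.extZeroAdj j).unit.app ((Scheme.Modules.restrictFunctor j).obj M) ≫
        (Scheme.Modules.restrictFunctor j).map ((CxOX.extZeroAdj j).counit.app M)) := by rw [h]; infer_instance
    haveI := IsIso.of_isIso_comp_left ((CxOX.extZeroAdj j).unit.app ((Scheme.Modules.restrictFunctor j).obj M))
      ((Scheme.Modules.restrictFunctor j).map ((CxOX.extZeroAdj j).counit.app M))
    infer_instance
  · exact ⟨fun g g' _ => (isZero_stalk_extZero j _ x hx).eq_of_tgt _ _⟩

/-- A homomorphism on the open into an injective, killed by the differential, extends from a coherent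
submodule which is everything on the open. -/
theorem exists_extend_map [IsLocallyNoetherian X] {M N N' : X.Modules} (hM : Coh.IsCoh M) [Injective N]
    [N'.IsQuasicoherent] (d : N ⟶ N')
    (s : (Scheme.Modules.restrictFunctor j).obj M ⟶ (Scheme.Modules.restrictFunctor j).obj N)
    (hs : s ≫ (Scheme.Modules.restrictFunctor j).map d = 0) :
    ∃ (M' : X.Modules) (ι : M' ⟶ M) (s' : M' ⟶ N), Coh.IsCoh M' ∧
      IsIso ((Scheme.Modules.restrictFunctor j).map ι) ∧
      (Scheme.Modules.restrictFunctor j).map s' = (Scheme.Modules.restrictFunctor j).map ι ≫ s ∧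
      s' ≫ d = 0 := by
  let R := Scheme.Modules.restrictFunctor j
  haveI := mono_counit j M
  let t := ((CxOX.extZeroAdj j).homEquiv _ _).symm s
  let t' : M ⟶ N := Injective.factorThru t ((CxOX.extZeroAdj j).counit.app M)
  have ht : R.map t' = s := by
    have h := ((CxOX.extZeroAdj j).homEquiv _ _).apply_symm_apply s
    rw [Adjunction.homEquiv_unit] at h
    rw [← h, show ((CxOX.extZeroAdj j).homEquiv _ _).symm s = (CxOX.extZeroAdj j).counit.app M ≫ t' from
      (Injective.comp_factorThru t _).symm, Functor.map_comp]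
    exact ((CxOX.extZeroAdj j).right_triangle_components_assoc M _).symm
  have hz : R.map (t' ≫ d) = 0 := by rw [Functor.map_comp, ht]; exact hs
  haveI := hM.1
  haveI : (kernel (t' ≫ d)).IsQuasicoherent := QCoh.isQuasicoherent_kernel _
  refine ⟨kernel (t' ≫ d), kernel.ι _, kernel.ι _ ≫ t', ⟨inferInstance,
    QCoh.isFiniteType_of_mono (kernel.ι (t' ≫ d)) hM.2⟩, ?_, by rw [Functor.map_comp, ht],
    by rw [Category.assoc]; exact kernel.condition _⟩
  let T := ShortComplex.mk (kernel.ι (t' ≫ d)) (t' ≫ d) (kernel.condition _)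
  have hT : (T.map R).Exact := (ShortComplex.exact_of_f_is_kernel T (kernelIsKernel _)).map R
  haveI : Epi (R.map (kernel.ι (t' ≫ d))) := hT.epi_f hz
  exact isIso_of_mono_of_epi _

/-- The restriction of a bounded below complex of injectives is K-injective. -/
theorem isKInjective_res (I : CochainComplex X.Modules ℤ) (lo : ℤ) [I.IsStrictlyGE lo]
    (hI : ∀ n, Injective (I.X n)) : CochainComplex.IsKInjective ((resCx j).obj I) := by
  haveI : CochainComplex.IsStrictlyGE ((resCx j).obj I) lo := (CochainComplex.isStrictlyGE_iff _ _).2 fun i hi =>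
    (Scheme.Modules.restrictFunctor j).map_isZero (I.isZero_of_isStrictlyGE lo i hi)
  haveI : ∀ n, Injective (((resCx j).obj I).X n) := fun n => HomRestrict20.injective_restrictFunctor j _ (hI n)
  exact CochainComplex.isKInjective_of_injective _ lo

/-- A bounded below complex of quasi-coherent injectives with bounded coherent cohomology. -/
structure Good (I : CochainComplex X.Modules ℤ) : Prop where
  lo : ∃ lo : ℤ, I.IsStrictlyGE lo
  inj : ∀ n, Injective (I.X n)
  qc : ∀ n, (I.X n).IsQuasicoherent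
  coh : DCoh.IsCohD (Q.obj I)
  le : ∃ b : ℤ, (Q.obj I).IsLE b

variable [IsNoetherian X]

/-- The cone step. -/
theorem exists_step {F₁ F F₃ : DCoh.D U} {a : F₁ ⟶ F} {p : F ⟶ F₃} {c : F₃ ⟶ F₁⟦(1 : ℤ)⟧}
    (hT : Triangle.mk a p c ∈ distTriang _) {I : CochainComplex X.Modules ℤ} (hI : Good I)
    (e₁ : Q.obj ((resCx j).obj I) ≅ F₁) {H : U.Modules} (hH : Coh.IsCoh H) (b : ℤ)
    (e₃ : F₃ ≅ (DerivedCategory.singleFunctor U.Modules b).obj H) :
    ∃ G : CochainComplex X.Modules ℤ, Good G ∧ Nonempty (Q.obj ((resCx j).obj G) ≅ F) := by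
  let R := Scheme.Modules.restrictFunctor j
  let k := b + 1
  haveI : IsGrothendieckAbelian.{u} X.Modules :=
    GrothLib.SheafCoh.isGrothendieckAbelian_sheafOfModules (R := X.ringCatSheaf)
  haveI : EnoughInjectives X.Modules := inferInstance
  obtain ⟨lo, hlo⟩ := hI.lo
  haveI := isKInjective_res j I lo hI.inj
  haveI : I.IsKInjective := by
    haveI := hI.inj
    exact CochainComplex.isKInjective_of_injective I lo
  obtain ⟨M, hM, ⟨eM⟩⟩ := K0Sub.exists_extension j H hH
  -- the connecting map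
  let SH := (HomologicalComplex.single U.Modules (ComplexShape.up ℤ) k).obj (R.obj M)
  let eS : Q.obj SH ≅ F₃⟦(-1 : ℤ)⟧ :=
    ((DerivedCategory.singleFunctorIsoCompQ U.Modules k).app _).symm ≪≫
      (DerivedCategory.singleFunctor U.Modules k).mapIso eM ≪≫
      (((DerivedCategory.singleFunctors U.Modules).shiftIso (-1) k b (by omega)).app H).symm ≪≫
      (shiftFunctor _ (-1 : ℤ)).mapIso e₃.symm
  obtain ⟨φ, hφ⟩ := exists_map_eq (eS.hom ≫ (Triangle.mk a p c).invRotate.mor₁ ≫ e₁.inv)
  let s : R.obj M ⟶ R.obj (I.X k) := (HomologicalComplex.singleObjXSelf (ComplexShape.up ℤ) k (R.obj M)).inv ≫ φ.f k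
  have hs : s ≫ R.map (I.d k (k + 1)) = 0 := by
    have h : φ.f k ≫ ((resCx j).obj I).d k (k + 1) = 0 := (φ.comm k (k + 1)).trans (by simp [SH])
    exact (Category.assoc _ _ _).trans ((congrArg (_ ≫ ·) h).trans comp_zero)
  haveI := hI.inj k
  haveI := hI.qc (k + 1)
  obtain ⟨M', ι, s', hM', hι, hs', hd'⟩ := exists_extend_map j hM (I.d k (k + 1)) s hs
  haveI := hM'.1
  let S' := (HomologicalComplex.single X.Modules (ComplexShape.up ℤ) k).obj M'
  let φ' : S' ⟶ I := HomologicalComplex.mkHomFromSingle s' fun i hi => by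
    obtain rfl : k + 1 = i := hi
    exact hd'
  obtain ⟨J, η, hη, hJ0, hJi, hJq⟩ := exists_resolution M'
  let Jk := J⟦(-k : ℤ)⟧
  let eJ : Q.obj Jk ≅ Q.obj S' :=
    (Q.commShiftIso (-k : ℤ)).app J ≪≫
      (shiftFunctor _ (-k : ℤ)).mapIso (asIso (Q.map η)).symm ≪≫
      (shiftFunctor _ (-k : ℤ)).mapIso ((DerivedCategory.singleFunctorIsoCompQ X.Modules 0).app M').symm ≪≫
      ((DerivedCategory.singleFunctors X.Modules).shiftIso (-k) k 0 (by omega)).app M' ≪≫
      (DerivedCategory.singleFunctorIsoCompQ X.Modules k).app M'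
  obtain ⟨Φ, hΦ⟩ := exists_map_eq (eJ.hom ≫ Q.map φ')
  let G := CochainComplex.mappingCone Φ
  have hTG := DerivedCategory.mappingCone_triangle_distinguished Φ
  have hJk : ∀ i, i < k → IsZero (Jk.X i) := fun i hi =>
    J.isZero_of_isStrictlyGE 0 (i + -k) (by omega)
  have hcohS : DCoh.IsCohD (Q.obj S') :=
    DerTrunc.cohIn_of_iso (cohP X) ((DerivedCategory.singleFunctorIsoCompQ X.Modules k).app M')
      (DerTrunc.cohIn_single (cohP X) hM' k)
  have hleS : (Q.obj S').IsLE k :=
    DerivedCategory.TStructure.t.isLE_of_iso ((DerivedCategory.singleFunctorIsoCompQ X.Modules k).app M') k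
  refine ⟨G, ⟨⟨min lo (k - 1), (CochainComplex.isStrictlyGE_iff _ _).2 fun i hi => ?_⟩, fun n => ?_, fun n => ?_, ?_, ?_⟩, ?_⟩
  · exact IsZero.of_iso ((biprod_isZero_iff _ _).2 ⟨hJk _ (by omega), I.isZero_of_isStrictlyGE lo i (by omega)⟩)
      (HomologicalComplex.homotopyCofiber.XIsoBiprod Φ i (i + 1) rfl)
  · haveI : Injective (Jk.X (n + 1)) := hJi _
    haveI := hI.inj n
    exact Injective.of_iso (HomologicalComplex.homotopyCofiber.XIsoBiprod Φ n (n + 1) rfl).symm inferInstance
  · haveI : (Jk.X (n + 1)).IsQuasicoherent := hJq _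
    haveI := hI.qc n
    exact isQCoh_of_iso (HomologicalComplex.homotopyCofiber.XIsoBiprod Φ n (n + 1) rfl).symm
      (Cohom.isQuasicoherent_biprod _ _)
  · exact DerTrunc.cohIn_obj₂ (cohP X) (rot_of_distTriang _ hTG) hI.coh
      (DerTrunc.cohIn_shift (cohP X) (DerTrunc.cohIn_of_iso (cohP X) eJ.symm hcohS) 1)
  · obtain ⟨b', hb'⟩ := hI.le
    refine ⟨max b' k, DerivedCategory.TStructure.t.isLE₂ _ (rot_of_distTriang _ hTG) (max b' k) ?_ ?_⟩
    · haveI : DerivedCategory.TStructure.t.IsLE (Q.obj I) b' := hb'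
      exact DerivedCategory.TStructure.t.isLE_of_le (Q.obj I) b' _ (le_max_left _ _)
    · haveI : DerivedCategory.TStructure.t.IsLE (Q.obj Jk) k :=
        DerivedCategory.TStructure.t.isLE_of_iso eJ.symm k
      haveI : DerivedCategory.TStructure.t.IsLE ((Q.obj Jk)⟦(1 : ℤ)⟧) (k - 1) :=
        DerivedCategory.TStructure.t.isLE_shift (Q.obj Jk) k 1 (k - 1) (by omega)
      exact DerivedCategory.TStructure.t.isLE_of_le ((Q.obj Jk)⟦(1 : ℤ)⟧) (k - 1) _ (by omega)
  · let σ : (resCx j).obj S' ≅ (HomologicalComplex.single U.Modules (ComplexShape.up ℤ) k).obj (R.obj M) :=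
      (HomologicalComplex.singleMapHomologicalComplex R (ComplexShape.up ℤ) k).app M' ≪≫
        (HomologicalComplex.single U.Modules (ComplexShape.up ℤ) k).mapIso (@asIso _ _ _ _ (R.map ι) hι)
    have hσ : σ.hom ≫ φ = (resCx j).map φ' := by
      rw [← cancel_epi ((HomologicalComplex.singleMapHomologicalComplex R (ComplexShape.up ℤ) k).app M').inv]
      refine HomologicalComplex.from_single_hom_ext ?_
      simp [σ, φ', s, R] at hs' ⊢
      simp [hs', HomologicalComplex.single_map_f_self]
    let T₀ := (resD j).mapTriangle.obj (Triangle.mk (Q.map Φ) (Q.map (CochainComplex.mappingCone.inr Φ))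
      ((CochainComplex.mappingCone.triangle Φ).mor₃ |> fun d => Q.map d ≫ (Q.commShiftIso (1 : ℤ)).hom.app Jk))
    have hT₀ : T₀ ∈ distTriang _ := (resD j).map_distinguished _ hTG
    let u₁ : (resD j).obj (Q.obj Jk) ≅ F₃⟦(-1 : ℤ)⟧ :=
      (resD j).mapIso eJ ≪≫ (resDFac j).app S' ≪≫ Q.mapIso σ ≪≫ eS
    let u₂ : (resD j).obj (Q.obj I) ≅ F₁ := (resDFac j).app I ≪≫ e₁
    have hsq : T₀.mor₁ ≫ u₂.hom = u₁.hom ≫ (Triangle.mk a p c).invRotate.mor₁ := by
      show (resD j).map (Q.map Φ) ≫ _ = _
      have h1 : (resD j).map (Q.map φ') ≫ (resDFac j).hom.app I =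
          (resDFac j).hom.app S' ≫ Q.map ((resCx j).map φ') := (resDFac j).hom.naturality φ'
      rw [hΦ, Functor.map_comp]
      simp only [u₁, u₂, Iso.trans_hom, Category.assoc, Functor.mapIso_hom, Iso.app_hom]
      rw [reassoc_of% h1, ← hσ, Functor.map_comp, Category.assoc, hφ]
      simp
    exact ⟨((resDFac j).app G).symm ≪≫ Triangle.π₃.mapIso
      (isoTriangleOfIso₁₂ _ _ hT₀ (inv_rot_of_distTriang _ hT) u₁ u₂ hsq)⟩

/-- **Bounded coherent objects extend.** -/
theorem exists_good_extension (F : DCoh.D U) (hF : DCoh.IsCohD F) (lo : ℤ) [F.IsGE lo] (b : ℤ) [F.IsLE b] :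
    ∃ G : CochainComplex X.Modules ℤ, Good G ∧ Nonempty (Q.obj ((resCx j).obj G) ≅ F) := by
  obtain ⟨n, hn⟩ : ∃ n : ℕ, b ≤ lo - 1 + n := ⟨(b - lo + 1).toNat, by omega⟩
  induction n generalizing b F with
  | zero =>
    obtain ⟨Z, hZ⟩ : ∃ Z : CochainComplex X.Modules ℤ, IsZero Z := HasZeroObject.zero
    have hzX : ∀ i, IsZero (Z.X i) := fun i => (HomologicalComplex.eval _ _ i).map_isZero hZ
    have hzF : IsZero F := by
      refine OX.isZero_of_support_empty fun i => Set.eq_empty_iff_forall_notMem.2 fun x hx => hx ?_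
      refine ModuleCat.isZero_iff_subsingleton.1 ((OX.stalk x).map_isZero ?_)
      by_cases hi : i < lo
      · exact DerivedCategory.isZero_of_isGE F lo i hi
      · exact DerivedCategory.isZero_of_isLE F b i (by omega)
    refine ⟨Z, ⟨⟨0, (CochainComplex.isStrictlyGE_iff _ _).2 fun i _ => hzX i⟩, fun i => (hzX i).injective,
      fun i => isQCoh_of_isZero (hzX i), DerTrunc.cohIn_of_isZero (cohP X) (Q.map_isZero hZ), 0,
      (DerivedCategory.isLE_iff _ _).2 fun i _ => (DerivedCategory.homologyFunctor _ i).map_isZero (Q.map_isZero hZ)⟩,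
      ⟨(Q.map_isZero ((resCx j).map_isZero hZ)).iso hzF⟩⟩
  | succ n ih =>
    obtain ⟨F', a, p, c, hT, hz, hiso⟩ :=
      PC.exists_top_triangle F b fun i hi => DerivedCategory.isZero_of_isLE F b i hi
    haveI : F'.IsLE (b - 1) := (DerivedCategory.isLE_iff _ _).2 fun i hi => hz i (by omega)
    haveI : F'.IsGE lo := (DerivedCategory.isGE_iff _ _).2 fun i hi => by
      by_cases hib : i < b
      · haveI := hiso i hib
        exact (DerivedCategory.isZero_of_isGE F lo i hi).of_iso (asIso ((DerivedCategory.homologyFunctor _ i).map a))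
      · exact hz i (by omega)
    have hF' : DCoh.IsCohD F' := fun i => by
      by_cases hib : i < b
      · haveI := hiso i hib
        exact QCoh.isCoh_of_iso (asIso ((DerivedCategory.homologyFunctor _ i).map a)).symm (hF i)
      · exact isCoh_of_isZero (hz i (by omega))
    obtain ⟨I, hI, ⟨e⟩⟩ := ih F' hF' (b - 1) (by omega)
    exact exists_step j hT hI e (hF b) b (Iso.refl _)

end GrothLib.CohExtend20
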