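import Groth.Agent.Lib.InjQCoh20.Embed
import Groth.Agent.Lib.QCoh.Abelian
import Groth.Agent.Lib.OX.QCohFun
import Mathlib.CategoryTheory.Abelian.Injective.Extend
import Mathlib.CategoryTheory.Abelian.Injective.Resolution

/-! # Quasi-coherent injective resolutions -/

set_option autoImplicit false
set_option maxHeartbeats 1000000
set_option backward.isDefEq.respectTransparency false
universe u

open CategoryTheory CategoryTheory.Limits AlgebraicGeometry

noncomputable section

namespace GrothLib.CohExtend20

variable {X : Scheme.{u}} [IsLocallyNoetherian X]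

/-- An embedding in an injective, quasi-coherent when the source is. -/
theorem exists_emb [EnoughInjectives X.Modules] (M : X.Modules) :
    ∃ (J : X.Modules) (i : M ⟶ J), Injective J ∧ Mono i ∧ (M.IsQuasicoherent → J.IsQuasicoherent) := by
  by_cases h : M.IsQuasicoherent
  · obtain ⟨J, i, hJ, hJi, hi⟩ := InjQCoh20.exists_injective_embedding M
    exact ⟨J, i, hJi, hi, fun _ => hJ⟩
  · exact ⟨Injective.under M, Injective.ι M, inferInstance, inferInstance, fun h' => absurd h' h⟩

variable [EnoughInjectives X.Modules]

def E (M : X.Modules) : X.Modules := (exists_emb M).choose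

def emb (M : X.Modules) : M ⟶ E M := (exists_emb M).choose_spec.choose

instance injective_E (M : X.Modules) : Injective (E M) := (exists_emb M).choose_spec.choose_spec.1

instance mono_emb (M : X.Modules) : Mono (emb M) := (exists_emb M).choose_spec.choose_spec.2.1

theorem qcoh_E {M : X.Modules} (h : M.IsQuasicoherent) : (E M).IsQuasicoherent :=
  (exists_emb M).choose_spec.choose_spec.2.2 h

/-- A morphism. -/
structure St (X : Scheme.{u}) where
  A : X.Modules
  B : X.Modules
  f : A ⟶ B

def next (s : St X) : St X := ⟨s.B, E (cokernel s.f), cokernel.π s.f ≫ emb _⟩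

def seq (M : X.Modules) : ℕ → St X
  | 0 => ⟨E M, E (cokernel (emb M)), cokernel.π (emb M) ≫ emb _⟩
  | n + 1 => next (seq M n)

theorem qcoh_seq (M : X.Modules) [M.IsQuasicoherent] :
    ∀ n, (seq M n).A.IsQuasicoherent ∧ (seq M n).B.IsQuasicoherent
  | 0 => by
    haveI := qcoh_E (M := M) inferInstance
    exact ⟨qcoh_E inferInstance, qcoh_E (QCoh.isQuasicoherent_cokernel (emb M))⟩
  | n + 1 => by
    obtain ⟨h1, h2⟩ := qcoh_seq M n
    exact ⟨h2, qcoh_E (QCoh.isQuasicoherent_cokernel (seq M n).f)⟩

theorem injective_seq (M : X.Modules) : ∀ n, Injective (seq M n).A ∧ Injective (seq M n).B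
  | 0 => ⟨injective_E _, injective_E _⟩
  | n + 1 => ⟨(injective_seq M n).2, injective_E _⟩

/-- The resolving complex. -/
def cocomplex (M : X.Modules) : CochainComplex X.Modules ℕ :=
  CochainComplex.of (fun n => (seq M n).A) (fun n => (seq M n).f) fun n => by
    show (seq M n).f ≫ cokernel.π (seq M n).f ≫ emb _ = 0
    rw [cokernel.condition_assoc, zero_comp]

theorem exact_next {A B : X.Modules} (f : A ⟶ B) :
    (ShortComplex.mk f (cokernel.π f ≫ emb (cokernel f)) (by simp)).Exact := by
  let α : ShortComplex.mk f (cokernel.π f) (cokernel.condition f) ⟶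
      ShortComplex.mk f (cokernel.π f ≫ emb (cokernel f)) (by simp) :=
    { τ₁ := 𝟙 _, τ₂ := 𝟙 _, τ₃ := emb _ }
  exact (ShortComplex.exact_iff_of_epi_of_isIso_of_mono α).1
    (ShortComplex.exact_of_g_is_cokernel _ (cokernelIsCokernel f))

theorem exactAt_succ (M : X.Modules) (n : ℕ) : (cocomplex M).ExactAt (n + 1) := by
  rw [HomologicalComplex.exactAt_iff' _ n (n + 1) (n + 1 + 1) (by simp) (by simp)]
  simp only [HomologicalComplex.sc', HomologicalComplex.shortComplexFunctor', cocomplex, CochainComplex.of_d]
  exact exact_next (seq M n).f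

theorem cocomplex_d_zero (M : X.Modules) :
    (cocomplex M).d 0 1 = cokernel.π (emb M) ≫ emb (cokernel (emb M)) := by
  simp [cocomplex, seq]
  rfl

/-- A quasi-coherent injective resolution. -/
def resolution (M : X.Modules) : InjectiveResolution M where
  cocomplex := cocomplex M
  injective n := (injective_seq M n).1
  ι := (CochainComplex.fromSingle₀Equiv _ _).symm ⟨emb M,
    by rw [cocomplex_d_zero]; erw [cokernel.condition_assoc, zero_comp]⟩
  quasiIso := ⟨fun n => by
    cases n
    · rw [CochainComplex.quasiIsoAt₀_iff, ShortComplex.quasiIso_iff_of_zeros]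
      · refine (ShortComplex.exact_and_mono_f_iff_of_iso ?_).2
          ⟨exact_next (emb M), by dsimp; infer_instance⟩
        exact ShortComplex.isoMk (Iso.refl _) (Iso.refl _) (Iso.refl _) (by simp)
          (by simp [cocomplex, seq]; rfl)
      all_goals rfl
    · rw [quasiIsoAt_iff_exactAt]
      · apply exactAt_succ
      · apply CochainComplex.exactAt_succ_single_obj⟩

/-- A quasi-coherent module has a bounded below resolution by quasi-coherent injectives. -/
theorem exists_resolution (M : X.Modules) [M.IsQuasicoherent] :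
    ∃ (J : CochainComplex X.Modules ℤ) (η : (CochainComplex.singleFunctor X.Modules 0).obj M ⟶ J),
      QuasiIso η ∧ J.IsStrictlyGE 0 ∧ (∀ n, Injective (J.X n)) ∧ ∀ n, (J.X n).IsQuasicoherent := by
  let R := resolution M
  haveI : R.cochainComplex.IsStrictlyGE 0 := inferInstance
  have hn : ∀ n : ℤ, Injective (R.cochainComplex.X n) ∧ (R.cochainComplex.X n).IsQuasicoherent := fun n => by
    by_cases h : 0 ≤ n
    · obtain ⟨m, rfl⟩ := Int.eq_ofNat_of_zero_le h
      let e : R.cochainComplex.X m ≅ (seq M m).A := R.cochainComplexXIso (m : ℤ) m rfl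
      exact ⟨Injective.of_iso e.symm (injective_seq M m).1, OX.isQCoh_of_iso e.symm (qcoh_seq M m).1⟩
    · have hz : IsZero (R.cochainComplex.X n) :=
        R.cochainComplex.isZero_of_isStrictlyGE 0 n (by omega)
      exact ⟨hz.injective, OX.isQCoh_of_isZero hz⟩
  exact ⟨R.cochainComplex, R.ι', inferInstance, inferInstance, fun n => (hn n).1, fun n => (hn n).2⟩

end GrothLib.CohExtend20
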